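import Mathlib
import Groth.Prelude.Def_Pi1

/-!
# The ring of sections of a normal locally integral scheme is a normal ring
-/

set_option autoImplicit false
set_option linter.all false
universe u

open CategoryTheory AlgebraicGeometry TopologicalSpace Opposite Polynomial

noncomputable section

namespace NormSectGlobLib

variable {W : Scheme.{u}} (hN : Pi1.IsNormalScheme W)
  (hloc : ∀ w : W, ∃ O : W.Opens, w ∈ O ∧ IsIntegral (O : Scheme.{u}))

/-- germs of a global section -/
abbrev gg (w : W) : Γ(W, ⊤) →+* W.presheaf.stalk w := (W.presheaf.germ ⊤ w trivial).hom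

theorem gg_ext {a b : Γ(W, ⊤)} (h : ∀ w, gg w a = gg w b) : a = b :=
  TopCat.Presheaf.section_ext W.sheaf ⊤ a b fun w _ => h w

/-- where a section vanishes -/
def zeroSet (a : Γ(W, ⊤)) : Set W := {w | gg w a = 0}

theorem isOpen_zeroSet (a : Γ(W, ⊤)) : IsOpen (zeroSet a) := by
  refine isOpen_iff_forall_mem_open.mpr fun w hw => ?_
  obtain ⟨N, hwN, i, j, he⟩ := W.presheaf.germ_eq (U := ⊤) (V := ⊤) w trivial trivial a 0 (hw.trans (map_zero (gg w)).symm)
  refine ⟨N, fun z hz => ?_, N.2, hwN⟩
  have h2 := congrArg (W.presheaf.germ N z hz).hom he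
  rw [TopCat.Presheaf.germ_res_apply, TopCat.Presheaf.germ_res_apply] at h2
  exact h2.trans (map_zero _)

include hloc in
theorem isClosed_zeroSet (a : Γ(W, ⊤)) : IsClosed (zeroSet a) := by
  refine ⟨isOpen_iff_forall_mem_open.mpr fun w hw => ?_⟩
  obtain ⟨O, hwO, hO⟩ := hloc w
  refine ⟨O, fun z hz hza => hw ?_, O.2, hwO⟩
  obtain ⟨N, hzN, i, j, he⟩ := W.presheaf.germ_eq (U := ⊤) (V := ⊤) z trivial trivial a 0 (hza.trans (map_zero (gg z)).symm)
  let aO : Γ(W, O) := (W.presheaf.map (homOfLE le_top).op).hom a
  haveI : Nonempty O := ⟨⟨w, hwO⟩⟩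
  have hξ : (O.ι (genericPoint (O : Scheme.{u}))) ∈ N :=
    (((genericPoint_specializes (α := (O : Scheme.{u})) ⟨z, hz⟩).map O.ι.continuous)).mem_open N.2 hzN
  have h0 : aO = 0 := by
    let ξ := genericPoint (O : Scheme.{u})
    let aO' : Γ((O : Scheme.{u}), ⊤) := O.topIso.inv.hom aO
    have h1 : W.presheaf.germ O (O.ι ξ) ξ.2 aO = 0 := by
      show (W.presheaf.germ O _ _).hom ((W.presheaf.map _).hom a) = 0
      rw [TopCat.Presheaf.germ_res_apply]
      have h2 := congrArg (W.presheaf.germ N (O.ι ξ) hξ).hom he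
      rw [TopCat.Presheaf.germ_res_apply, TopCat.Presheaf.germ_res_apply] at h2
      exact h2.trans (map_zero _)
    have hbij := ConcreteCategory.bijective_of_isIso (O.stalkIso ξ).hom
    have h3 : ((O : Scheme.{u}).presheaf.germ ⊤ ξ trivial).hom aO' = 0 := by
      refine hbij.1 ?_
      rw [map_zero]
      refine Eq.trans ?_ h1
      have := congr($(Scheme.Opens.germ_stalkIso_hom O (V := ⊤) (x := ξ) trivial) aO')
      refine this.trans ?_
      exact TopCat.Presheaf.germ_res_apply W.presheaf _ _ _ _
    have h4 := germ_injective_of_isIntegral (O : Scheme.{u}) (U := ⊤) ξ trivial (h3.trans (map_zero _).symm)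
    exact (ConcreteCategory.bijective_of_isIso O.topIso.inv).1 (h4.trans (map_zero _).symm)
  show gg w a = 0
  rw [show gg w a = (W.presheaf.germ O w hwO).hom aO from (TopCat.Presheaf.germ_res_apply _ _ _ hwO _).symm, h0,
    map_zero]

include hloc in
theorem exists_idem (a : Γ(W, ⊤)) :
    ∃ e : Γ(W, ⊤), (∀ w ∈ zeroSet a, gg w e = 1) ∧ ∀ w ∉ zeroSet a, gg w e = 0 := by
  let U : Bool → W.Opens := fun b =>
    bif b then ⟨zeroSet a, isOpen_zeroSet a⟩ else ⟨(zeroSet a)ᶜ, (isClosed_zeroSet hloc a).isOpen_compl⟩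
  let s : ∀ b, Γ(W, U b) := fun b => bif b then 1 else 0
  obtain ⟨e, he, -⟩ := TopCat.Sheaf.existsUnique_gluing' (F := W.sheaf) (fun b : ULift.{u} Bool => U b.down) ⊤
    (fun b => homOfLE le_top) (fun w _ => by
      by_cases hw : w ∈ zeroSet a
      · exact Opens.mem_iSup.mpr ⟨⟨true⟩, hw⟩
      · exact Opens.mem_iSup.mpr ⟨⟨false⟩, hw⟩)
    (fun b => s b.down) fun b c => by
      obtain ⟨b⟩ := b
      obtain ⟨c⟩ := c
      by_cases hbc : b = c
      · subst hbc; rfl
      · haveI : Subsingleton Γ(W, U b ⊓ U c) := by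
          have : U b ⊓ U c = ⊥ := by
            ext w
            cases b <;> cases c <;> simp [U] at hbc ⊢
          exact CommRingCat.subsingleton_of_isTerminal (this ▸ W.sheaf.isTerminalOfEmpty)
        exact @Subsingleton.elim _ (by assumption) _ _
  refine ⟨e, fun w hw => ?_, fun w hw => ?_⟩
  · have h := congrArg (W.presheaf.germ (U true) w hw).hom (he ⟨true⟩)
    erw [TopCat.Presheaf.germ_res_apply] at h
    exact h.trans (map_one _)
  · have h := congrArg (W.presheaf.germ (U false) w hw).hom (he ⟨false⟩)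
    erw [TopCat.Presheaf.germ_res_apply] at h
    exact h.trans (map_zero _)

variable (P : Ideal Γ(W, ⊤)) [P.IsPrime]


include hN hloc in
theorem eq_zero_or_eq_zero {a b : Γ(W, ⊤)} (h : a * b = 0) : (algebraMap Γ(W, ⊤) (Localization.AtPrime P)) a = 0 ∨ (algebraMap Γ(W, ⊤) (Localization.AtPrime P)) b = 0 := by
  obtain ⟨e, he1, he0⟩ := exists_idem hloc a
  have hea : e * a = 0 := gg_ext fun w => by
    rw [map_mul, map_zero]
    by_cases hw : w ∈ zeroSet a
    · rw [show gg w a = 0 from hw, mul_zero]
    · rw [he0 w hw, zero_mul]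
  have heb : (1 - e) * b = 0 := gg_ext fun w => by
    rw [map_mul, map_sub, map_one, map_zero]
    by_cases hw : w ∈ zeroSet a
    · rw [he1 w hw, sub_self, zero_mul]
    · haveI := (hN w).1
      have := congrArg (gg w) h
      rw [map_mul, map_zero] at this
      rw [(mul_eq_zero.mp this).resolve_left hw, mul_zero]
  by_cases heP : e ∈ P
  · have h1 : (1 - e) ∈ P.primeCompl := fun h1 => ‹P.IsPrime›.ne_top
      ((Ideal.eq_top_iff_one _).mpr (by simpa using P.add_mem h1 heP))
    exact Or.inr ((IsLocalization.map_eq_zero_iff P.primeCompl _ _).mpr ⟨⟨_, h1⟩, heb⟩)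
  · exact Or.inl ((IsLocalization.map_eq_zero_iff P.primeCompl _ _).mpr ⟨⟨e, heP⟩, hea⟩)

include hN hloc in
theorem isDomain_localization : IsDomain (Localization.AtPrime P) := by
  haveI : NoZeroDivisors (Localization.AtPrime P) := ⟨fun {x y} hxy => by
    obtain ⟨⟨a, s⟩, ha⟩ := IsLocalization.surj P.primeCompl x
    obtain ⟨⟨b, t⟩, hb⟩ := IsLocalization.surj P.primeCompl y
    have h0 : (algebraMap Γ(W, ⊤) (Localization.AtPrime P)) (a * b) = 0 := by rw [map_mul, ← ha, ← hb, mul_mul_mul_comm, hxy, zero_mul]
    obtain ⟨u, hu⟩ := (IsLocalization.map_eq_zero_iff P.primeCompl _ _).mp h0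
    rw [← mul_assoc] at hu
    have hs := IsLocalization.map_units (Localization.AtPrime P) s
    have ht := IsLocalization.map_units (Localization.AtPrime P) t
    rcases eq_zero_or_eq_zero hN hloc P hu with h | h
    · rw [map_mul, (IsLocalization.map_units (Localization.AtPrime P) u).mul_right_eq_zero, ← ha, hs.mul_left_eq_zero] at h
      exact Or.inl h
    · rw [← hb, ht.mul_left_eq_zero] at h
      exact Or.inr h⟩
  exact NoZeroDivisors.to_isDomain _

include hN in
theorem exists_quotient {A b : Γ(W, ⊤)} (hb : ∀ w, gg w b ≠ 0) (g : Polynomial Γ(W, ⊤)) (hg : g.Monic)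
    (hA : (g.scaleRoots b).eval A = 0) : ∃ r, A = b * r := by
  have hst : ∀ w, ∃ r, gg w A = gg w b * r := fun w => by
    haveI := (hN w).1
    haveI := (hN w).2
    let S := W.presheaf.stalk w
    let K := FractionRing S
    let φ : Γ(W, ⊤) →+* K := (algebraMap S K).comp (gg w)
    have hb0 : φ b ≠ 0 := fun h => hb w ((IsFractionRing.injective S K) (h.trans (map_zero _).symm))
    have hroot : (g.map φ).eval (φ A / φ b) = 0 := by
      have h1 := congrArg φ hA
      rw [map_zero, ← Polynomial.eval₂_at_apply, ← Polynomial.eval_map] at h1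
      rw [Polynomial.map_scaleRoots g b φ (by rw [hg.leadingCoeff, map_one]; exact one_ne_zero)] at h1
      rw [show φ A = φ b * (φ A / φ b) from (mul_div_cancel₀ _ hb0).symm, Polynomial.scaleRoots_eval_mul] at h1
      exact (mul_eq_zero.mp h1).resolve_left (pow_ne_zero _ hb0)
    have hint : IsIntegral S (φ A / φ b) :=
      ⟨g.map (gg w), hg.map _, by rw [Polynomial.eval₂_map, ← Polynomial.eval_map]; exact hroot⟩
    obtain ⟨r, hr⟩ := IsIntegrallyClosed.isIntegral_iff.mp hint
    refine ⟨r, IsFractionRing.injective S K ?_⟩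
    rw [map_mul, hr]
    exact (mul_div_cancel₀ _ hb0).symm
  have hloc' : ∀ w : W, ∃ (N : W.Opens) (r : Γ(W, N)), w ∈ N ∧
      (W.presheaf.map (homOfLE (le_top : N ≤ ⊤)).op).hom A =
        (W.presheaf.map (homOfLE (le_top : N ≤ ⊤)).op).hom b * r := fun w => by
    obtain ⟨r, hr⟩ := hst w
    obtain ⟨N, hwN, r', rfl⟩ := W.presheaf.exists_germ_eq r
    have h1 : W.presheaf.germ N w hwN ((W.presheaf.map (homOfLE le_top).op).hom A) =
        W.presheaf.germ N w hwN ((W.presheaf.map (homOfLE le_top).op).hom b * r') := by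
      rw [map_mul, TopCat.Presheaf.germ_res_apply, TopCat.Presheaf.germ_res_apply]
      exact hr
    obtain ⟨N', hwN', i, j, he⟩ := W.presheaf.germ_eq w hwN hwN _ _ h1
    refine ⟨N', (W.presheaf.map i.op).hom r', hwN', ?_⟩
    rw [Subsingleton.elim j i, map_mul] at he
    simp only [← CommRingCat.comp_apply, ← Functor.map_comp, ← op_comp] at he
    exact he
  choose N r hwN hr using hloc'
  obtain ⟨R, hR, -⟩ := TopCat.Sheaf.existsUnique_gluing' (F := W.sheaf) N ⊤ (fun w => homOfLE le_top)
    (fun w _ => Opens.mem_iSup.mpr ⟨w, hwN w⟩) r fun v w => by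
      refine TopCat.Presheaf.section_ext W.sheaf _ _ _ fun z hz => ?_
      erw [TopCat.Presheaf.germ_res_apply, TopCat.Presheaf.germ_res_apply]
      haveI := (hN z).1
      refine mul_left_cancel₀ (a := gg z b) (hb z) ?_
      have hv := congrArg (W.presheaf.germ (N v) z hz.1).hom (hr v)
      have hw := congrArg (W.presheaf.germ (N w) z hz.2).hom (hr w)
      rw [map_mul, TopCat.Presheaf.germ_res_apply, TopCat.Presheaf.germ_res_apply] at hv hw
      exact hv.symm.trans hw
  refine ⟨R, gg_ext fun w => ?_⟩
  have h1 := congrArg (W.presheaf.germ (N w) w (hwN w)).hom (hr w)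
  have h2 := congrArg (W.presheaf.germ (N w) w (hwN w)).hom (hR w)
  rw [map_mul, TopCat.Presheaf.germ_res_apply, TopCat.Presheaf.germ_res_apply] at h1
  erw [TopCat.Presheaf.germ_res_apply] at h2
  rw [map_mul]
  exact h1.trans (congrArg (gg w b * ·) h2.symm)

include hN hloc in
theorem isIntegrallyClosed_localization : IsIntegrallyClosed (Localization.AtPrime P) := by
  haveI := isDomain_localization hN hloc P
  let κ : Γ(W, ⊤) →+* (FractionRing (Localization.AtPrime P)) := (algebraMap (Localization.AtPrime P) (FractionRing (Localization.AtPrime P))).comp (algebraMap Γ(W, ⊤) (Localization.AtPrime P))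
  refine (isIntegrallyClosed_iff (FractionRing (Localization.AtPrime P))).mpr fun {x} hx => ?_
  obtain ⟨a', b', hb', rfl⟩ := IsFractionRing.div_surjective (Localization.AtPrime P) x
  obtain ⟨⟨a, s⟩, ha⟩ := IsLocalization.surj P.primeCompl a'
  obtain ⟨⟨b, t⟩, hb⟩ := IsLocalization.surj P.primeCompl b'
  obtain ⟨e, he1, he0⟩ := exists_idem hloc b
  have hbne : (algebraMap Γ(W, ⊤) (Localization.AtPrime P)) b ≠ 0 := by
    rw [← hb]; exact mul_ne_zero (nonZeroDivisors.ne_zero hb') (IsLocalization.map_units (Localization.AtPrime P) t).ne_zero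
  have heb : e * b = 0 := gg_ext fun w => by
    rw [map_mul, map_zero]
    by_cases hw : w ∈ zeroSet b
    · rw [show gg w b = 0 from hw, mul_zero]
    · rw [he0 w hw, zero_mul]
  have he : (algebraMap Γ(W, ⊤) (Localization.AtPrime P)) e = 0 := by
    have h := congrArg (algebraMap Γ(W, ⊤) (Localization.AtPrime P)) heb
    rw [map_mul, map_zero] at h
    exact (mul_eq_zero.mp h).resolve_right hbne
  let c := b + e
  have hc : ∀ w, gg w c ≠ 0 := fun w => by
    haveI := (hN w).1
    rw [map_add]
    by_cases hw : w ∈ zeroSet b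
    · rw [show gg w b = 0 from hw, he1 w hw, zero_add]; exact one_ne_zero
    · rw [he0 w hw, add_zero]; exact hw
  have hcal : (algebraMap Γ(W, ⊤) (Localization.AtPrime P)) c = (algebraMap Γ(W, ⊤) (Localization.AtPrime P)) b := by rw [map_add, he, add_zero]
  have hκc : κ c ≠ 0 := fun h => hbne (hcal ▸ IsFractionRing.injective (Localization.AtPrime P) (FractionRing (Localization.AtPrime P)) (h.trans (map_zero _).symm))
  have hunit : ∀ z : P.primeCompl, IsUnit (κ z) := fun z => (IsLocalization.map_units (Localization.AtPrime P) z).map (algebraMap (Localization.AtPrime P) (FractionRing (Localization.AtPrime P)))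
  let y : (FractionRing (Localization.AtPrime P)) := κ a / κ c
  have hy : IsIntegral (Localization.AtPrime P) y := by
    have : y = algebraMap (Localization.AtPrime P) (FractionRing (Localization.AtPrime P)) ((algebraMap Γ(W, ⊤) (Localization.AtPrime P)) s * ((IsLocalization.map_units (Localization.AtPrime P) t).unit⁻¹ : (Localization.AtPrime P)ˣ)) *
        (algebraMap (Localization.AtPrime P) (FractionRing (Localization.AtPrime P)) a' / algebraMap (Localization.AtPrime P) (FractionRing (Localization.AtPrime P)) b') := by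
      have h1 : κ a = algebraMap (Localization.AtPrime P) (FractionRing (Localization.AtPrime P)) a' * κ s := by
        show algebraMap (Localization.AtPrime P) (FractionRing (Localization.AtPrime P)) ((algebraMap Γ(W, ⊤) (Localization.AtPrime P)) a) = _
        rw [← ha, map_mul]; rfl
      have h2 : κ c = algebraMap (Localization.AtPrime P) (FractionRing (Localization.AtPrime P)) b' * κ t := by
        show algebraMap (Localization.AtPrime P) (FractionRing (Localization.AtPrime P)) ((algebraMap Γ(W, ⊤) (Localization.AtPrime P)) c) = _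
        rw [hcal, ← hb, map_mul]; rfl
      have ht : κ t * algebraMap (Localization.AtPrime P) (FractionRing (Localization.AtPrime P)) ((IsLocalization.map_units (Localization.AtPrime P) t).unit⁻¹ : (Localization.AtPrime P)ˣ) = 1 := by
        show algebraMap (Localization.AtPrime P) (FractionRing (Localization.AtPrime P)) ((algebraMap Γ(W, ⊤) (Localization.AtPrime P)) t) * _ = 1
        rw [← map_mul, IsUnit.mul_val_inv, map_one]
      have hb0 : algebraMap (Localization.AtPrime P) (FractionRing (Localization.AtPrime P)) b' ≠ 0 := IsFractionRing.to_map_ne_zero_of_mem_nonZeroDivisors hb'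
      show κ a / κ c = _
      rw [map_mul, h1, h2]
      have hκt : κ t ≠ 0 := (hunit t).ne_zero
      rw [show algebraMap (Localization.AtPrime P) (FractionRing (Localization.AtPrime P)) ((IsLocalization.map_units (Localization.AtPrime P) t).unit⁻¹ : (Localization.AtPrime P)ˣ) = (κ t)⁻¹ from
        eq_inv_of_mul_eq_one_right ht]
      show _ = κ s * _ * _
      field_simp
    rw [this]
    exact isIntegral_algebraMap.mul hx
  obtain ⟨m, hm⟩ := hy.exists_multiple_integral_of_isLocalization P.primeCompl y
  obtain ⟨f, hf, hfy⟩ := hm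
  let A := (m : Γ(W, ⊤)) * a
  have hmy : (m • y : (FractionRing (Localization.AtPrime P))) = κ A / κ c := by
    rw [Submonoid.smul_def, Algebra.smul_def,
      IsScalarTower.algebraMap_apply Γ(W, ⊤) (Localization.AtPrime P) (FractionRing (Localization.AtPrime P))]
    show κ m * (κ a / κ c) = _
    rw [map_mul, mul_div_assoc]
  have h0 : (algebraMap Γ(W, ⊤) (Localization.AtPrime P)) ((f.scaleRoots c).eval A) = 0 := by
    refine IsFractionRing.injective (Localization.AtPrime P) (FractionRing (Localization.AtPrime P)) ?_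
    rw [map_zero]
    show κ ((f.scaleRoots c).eval A) = 0
    rw [← Polynomial.eval₂_at_apply, ← Polynomial.eval_map,
      Polynomial.map_scaleRoots f c κ (by rw [hf.leadingCoeff, map_one]; exact one_ne_zero),
      show κ A = κ c * (κ A / κ c) from (mul_div_cancel₀ _ hκc).symm, Polynomial.scaleRoots_eval_mul, ← hmy,
      Polynomial.eval_map]
    exact mul_eq_zero_of_right _ hfy
  obtain ⟨u, hu⟩ := (IsLocalization.map_eq_zero_iff P.primeCompl _ _).mp h0
  by_cases hd : f.natDegree = 0
  · exfalso
    rw [hf.natDegree_eq_zero.mp hd, Polynomial.eval₂_one] at hfy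
    exact one_ne_zero hfy
  have h1 : ((f.scaleRoots (u : Γ(W, ⊤))).scaleRoots c).eval ((u : Γ(W, ⊤)) * A) = 0 := by
    rw [← Polynomial.scaleRoots_mul, mul_comm (u : Γ(W, ⊤)) c, Polynomial.scaleRoots_mul,
      Polynomial.scaleRoots_eval_mul, Polynomial.natDegree_scaleRoots]
    obtain ⟨k, hk⟩ := Nat.exists_eq_succ_of_ne_zero hd
    rw [hk, pow_succ, mul_assoc, hu, mul_zero]
  obtain ⟨r, hr⟩ := exists_quotient hN hc _ ((Polynomial.monic_scaleRoots_iff _).mpr hf) h1
  refine ⟨(algebraMap Γ(W, ⊤) (Localization.AtPrime P)) r * (((IsLocalization.map_units (Localization.AtPrime P) u).unit⁻¹ : (Localization.AtPrime P)ˣ) : (Localization.AtPrime P)) *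
    (((IsLocalization.map_units (Localization.AtPrime P) m).unit⁻¹ : (Localization.AtPrime P)ˣ) : (Localization.AtPrime P)) *
    ((algebraMap Γ(W, ⊤) (Localization.AtPrime P)) t * (((IsLocalization.map_units (Localization.AtPrime P) s).unit⁻¹ : (Localization.AtPrime P)ˣ) : (Localization.AtPrime P))), ?_⟩
  have hK : algebraMap (Localization.AtPrime P) (FractionRing (Localization.AtPrime P)) a' * κ s * (κ u * κ m) = κ r * (algebraMap (Localization.AtPrime P) (FractionRing (Localization.AtPrime P)) b' * κ t) := by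
    have h2 := congrArg κ hr
    rw [map_mul, map_mul, map_mul] at h2
    have e1 : κ a = algebraMap (Localization.AtPrime P) (FractionRing (Localization.AtPrime P)) a' * κ s := by
      show algebraMap (Localization.AtPrime P) (FractionRing (Localization.AtPrime P)) ((algebraMap Γ(W, ⊤) (Localization.AtPrime P)) a) = _
      rw [← ha, map_mul]; rfl
    have e2 : κ c = algebraMap (Localization.AtPrime P) (FractionRing (Localization.AtPrime P)) b' * κ t := by
      show algebraMap (Localization.AtPrime P) (FractionRing (Localization.AtPrime P)) ((algebraMap Γ(W, ⊤) (Localization.AtPrime P)) c) = _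
      rw [hcal, ← hb, map_mul]; rfl
    rw [← e1, ← e2]
    linear_combination h2
  have hinv : ∀ z : P.primeCompl, algebraMap (Localization.AtPrime P) (FractionRing (Localization.AtPrime P)) ((IsLocalization.map_units (Localization.AtPrime P) z).unit⁻¹ : (Localization.AtPrime P)ˣ) = (κ z)⁻¹ :=
    fun z => eq_inv_of_mul_eq_one_right (by
      show algebraMap (Localization.AtPrime P) (FractionRing (Localization.AtPrime P)) ((algebraMap Γ(W, ⊤) (Localization.AtPrime P)) z) * _ = 1
      rw [← map_mul, IsUnit.mul_val_inv, map_one])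
  simp only [map_mul, hinv]
  show κ r * _ * _ * (κ t * _) = _
  have hb0 : algebraMap (Localization.AtPrime P) (FractionRing (Localization.AtPrime P)) b' ≠ 0 := IsFractionRing.to_map_ne_zero_of_mem_nonZeroDivisors hb'
  have := (hunit u).ne_zero
  have := (hunit m).ne_zero
  have := (hunit s).ne_zero
  field_simp
  linear_combination -hK

include hN hloc in
theorem isNormalScheme_spec_sections : Pi1.IsNormalScheme (Spec Γ(W, ⊤)) := fun y => by
  let S := (Spec Γ(W, ⊤)).presheaf.stalk y
  letI : Algebra Γ(W, ⊤) S := (StructureSheaf.toStalk Γ(W, ⊤) y).hom.toAlgebra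
  haveI : IsLocalization.AtPrime S y.asIdeal := StructureSheaf.IsLocalization.to_stalk Γ(W, ⊤) y
  let e := (IsLocalization.algEquiv y.asIdeal.primeCompl (Localization.AtPrime y.asIdeal) S).toRingEquiv
  haveI := isDomain_localization hN hloc y.asIdeal
  haveI := isIntegrallyClosed_localization hN hloc y.asIdeal
  exact ⟨e.toMulEquiv.isDomain_iff.mp inferInstance, IsIntegrallyClosed.of_equiv e⟩

end NormSectGlobLib

end
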